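import Groth.Agent.ArLef32.Node
import Mathlib.Algebra.Ring.GeomSum
import Mathlib.RingTheory.Ideal.Colon

/-!
# Fixed-point multiplicities at a node of a semi-stable arithmetic surface
-/

set_option autoImplicit false

noncomputable section

namespace Groth.Agent.ArLef32

open scoped Pointwise

open ArLef NodeAlg

universe u

variable {B : Type u} [CommRing B] [IsLocalRing B] {π : B}
  [hπ : Fact (IsLocalRing.maximalIdeal B = Ideal.span {π})]
  [IsNoetherianRing B] [IsDomain B]

/-- `π` in the node algebra. -/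
abbrev P (π : B) : NodeAlg B π := algebraMap B (NodeAlg B π) π

theorem P_ne_zero (hπ0 : π ≠ 0) : P π ≠ 0 := by
  have := isDomain_node (π := π) hπ0
  rw [P, ← te_eq]
  exact mul_ne_zero (T_ne_zero 0) (T_ne_zero 1)

theorem fixIdeal_eq_span (σ : NodeAlg B π ≃+* NodeAlg B π) (j : ℕ) {γ : B} (hγ : IsUnit γ)
    (hσB : ∀ b, σ (algebraMap B _ b) - algebraMap B _ b ∈
      Ideal.span {algebraMap B (NodeAlg B π) (π ^ j)})
    (hσπ : σ (algebraMap B _ π) = algebraMap B (NodeAlg B π) (π + γ * π ^ j)) :
    ArLef.fixIdeal σ = Ideal.span {P π ^ j, σ (t π) - t π, σ (e π) - e π} := by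
  refine le_antisymm (fixIdeal_node_le σ _ (fun b => ?_) (Ideal.subset_span (by simp))
    (Ideal.subset_span (by simp))) (Ideal.span_le.2 ?_)
  · refine Ideal.span_mono ?_ (hσB b)
    rw [map_pow]; simp
  · rintro w (rfl | rfl | rfl)
    · rw [SetLike.mem_coe, ← Ideal.unit_mul_mem_iff_mem _ (hγ.map (algebraMap B (NodeAlg B π)))]
      have h := sub_mem_fixIdeal σ (P π)
      rw [hσπ, map_add, add_sub_cancel_left, map_mul, map_pow] at h
      exact h
    · exact sub_mem_fixIdeal _ _
    · exact sub_mem_fixIdeal _ _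

theorem mul_sub_one_eq (hπ0 : π ≠ 0) (σ : NodeAlg B π ≃+* NodeAlg B π) {j : ℕ} (hj : 1 ≤ j) {γ : B}
    (hσπ : σ (algebraMap B _ π) = algebraMap B (NodeAlg B π) (π + γ * π ^ j))
    {α β : NodeAlg B π} (h : σ (t π) * σ (e π) = α * β * (t π * e π)) :
    α * β - 1 = algebraMap B _ γ * P π ^ (j - 1) := by
  have := isDomain_node (π := π) hπ0
  rw [← map_mul, te_eq, hσπ, map_add, map_mul, map_pow] at h
  refine mul_right_cancel₀ (P_ne_zero hπ0) ?_
  rw [mul_assoc, ← pow_succ, Nat.sub_add_cancel hj]
  show _ = algebraMap B _ γ * algebraMap B _ π ^ j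
  linear_combination -h

theorem length_colon_pow_regular {J : Ideal (NodeAlg B π)} {x : NodeAlg B π}
    (hreg : ∀ z, x * z ∈ J → z ∈ J) (n : ℕ) (z : NodeAlg B π) (h : x ^ n * z ∈ J) : z ∈ J := by
  induction n generalizing z with
  | zero => simpa using h
  | succ n ih => rw [pow_succ, mul_assoc] at h; exact hreg _ (ih _ h)

theorem T_regular_mod (hπ0 : π ≠ 0) (i : Fin 2) {a : NodeAlg B π} (ha : ¬ T π i ∣ a)
    (z : NodeAlg B π) (h : T π i * z ∈ Ideal.span {a}) : z ∈ Ideal.span {a} := by
  have := isDomain_node (π := π) hπ0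
  obtain ⟨w, hw⟩ := Ideal.mem_span_singleton.1 h
  obtain ⟨w', rfl⟩ := (T_prime_dvd i ⟨z, hw.symm⟩).resolve_left ha
  exact Ideal.mem_span_singleton.2 ⟨w', mul_left_cancel₀ (T_ne_zero (π := π) i) (by rw [hw]; ring)⟩

theorem length_span_t_mul_e (b : NodeAlg B π) :
    Module.length (NodeAlg B π) (NodeAlg B π ⧸ Ideal.span {t π, b * e π}) =
      1 + Module.length (NodeAlg B π) (NodeAlg B π ⧸ Ideal.span {t π, b}) := by
  rw [Ideal.span_insert, Ideal.span_insert, mul_comm b]
  exact length_branch_rev_mul 0 b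

theorem length_span_e_mul_t (a : NodeAlg B π) :
    Module.length (NodeAlg B π) (NodeAlg B π ⧸ Ideal.span {e π, a * t π}) =
      1 + Module.length (NodeAlg B π) (NodeAlg B π ⧸ Ideal.span {e π, a}) := by
  rw [Ideal.span_insert, Ideal.span_insert, mul_comm a]
  exact length_branch_rev_mul 1 a

theorem span_sup_P (x a b : NodeAlg B π) :
    Ideal.span {P π * x, a * t π, b * e π} ⊔ Ideal.span {P π} =
      Ideal.span {P π, a * t π, b * e π} := by
  refine le_antisymm (sup_le (Ideal.span_le.2 ?_) (Ideal.span_mono (by simp))) (Ideal.span_le.2 ?_)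
  · rintro w (rfl | rfl | rfl)
    · exact Ideal.mul_mem_right _ _ (Ideal.subset_span (by simp))
    · exact Ideal.subset_span (by simp)
    · exact Ideal.subset_span (by simp)
  · rintro w (rfl | rfl | rfl)
    · exact Ideal.mem_sup_right (Ideal.mem_span_singleton_self _)
    · exact Ideal.mem_sup_left (Ideal.subset_span (by simp))
    · exact Ideal.mem_sup_left (Ideal.subset_span (by simp))

/-- The residual length when both branches are moved. -/
theorem length_core (hπ0 : π ≠ 0) {p q : ℕ} (hqp : q ≤ p) (α : (NodeAlg B π)ˣ)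
    {γ a b : NodeAlg B π} (hab : (α : NodeAlg B π) * b + a = γ * (t π ^ p * e π ^ q))
    (hea : ¬ e π ∣ a) (htb : ¬ t π ∣ b) :
    Module.length (NodeAlg B π) (NodeAlg B π ⧸
        Ideal.span {P π * (t π ^ p * e π ^ q), a * t π, b * e π}) =
      1 + ((p + 1 : ℕ) : ℕ∞) * Module.length (NodeAlg B π) (NodeAlg B π ⧸ Ideal.span {t π, b}) +
        ((q + 1 : ℕ) : ℕ∞) * Module.length (NodeAlg B π) (NodeAlg B π ⧸ Ideal.span {e π, a}) := by
  have := isDomain_node (π := π) hπ0
  set ρ := t π ^ p * e π ^ q with hρ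
  set K := Ideal.span {P π * ρ, a * t π, b * e π}
  have hb : b = (α⁻¹ : (NodeAlg B π)ˣ) * (γ * ρ - a) := by
    rw [← hab, add_sub_cancel_right, Units.inv_mul_cancel_left]
  have hcol : ∀ z, P π * z ∈ K ↔ z ∈ Ideal.span {ρ, a} := by
    intro z
    constructor
    · intro hz
      obtain ⟨u, w₁, hw₁, hu⟩ := Ideal.mem_span_insert.1 hz
      obtain ⟨v, w, hw⟩ := Ideal.mem_span_pair.1 hw₁
      have hP : P π = t π * e π := te_eq.symm
      have ht : t π ∣ w * b * e π := ⟨e π * z - u * e π * ρ - v * a, by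
        linear_combination hw - hu + (z - u * ρ) * hP⟩
      obtain ⟨w', rfl⟩ : t π ∣ w := by
        rcases T_prime_dvd 0 ht with h | h
        · exact (T_prime_dvd 0 h).resolve_right htb
        · exact absurd h (not_T_dvd_rev 0)
      obtain ⟨v', rfl⟩ : e π ∣ v := by
        have h : e π ∣ v * a * t π := ⟨t π * z - u * t π * ρ - t π * w' * b, by
          linear_combination hw - hu + (z - u * ρ) * hP⟩
        rcases T_prime_dvd 1 h with h | h
        · exact (T_prime_dvd 1 h).resolve_right hea
        · exact absurd h (not_T_dvd_rev 1)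
      have hz' : z = u * ρ + v' * a + w' * b := by
        refine mul_left_cancel₀ (P_ne_zero (π := π) hπ0) ?_
        rw [hu, ← hw, hP]
        ring
      rw [hz', hb]
      refine Ideal.mem_span_pair.2 ⟨u + w' * (α⁻¹ : (NodeAlg B π)ˣ) * γ,
        v' - w' * (α⁻¹ : (NodeAlg B π)ˣ), by ring⟩
    · intro hz
      obtain ⟨u, v, rfl⟩ := Ideal.mem_span_pair.1 hz
      rw [show P π * (u * ρ + v * a) = u * (P π * ρ) + (v * e π) * (a * t π) by
        rw [show P π = t π * e π from te_eq.symm]; ring]
      exact Ideal.add_mem _ (Ideal.mul_mem_left _ _ (Ideal.subset_span (by simp)))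
        (Ideal.mul_mem_left _ _ (Ideal.subset_span (by simp)))
  rw [length_colon K _ (P π) hcol, span_sup_P]
  set s₁ := Module.length (NodeAlg B π) (NodeAlg B π ⧸ Ideal.span {t π, b})
  set s₂ := Module.length (NodeAlg B π) (NodeAlg B π ⧸ Ideal.span {e π, a})
  have h1 : Module.length (NodeAlg B π) (NodeAlg B π ⧸ Ideal.span {P π, a * t π, b * e π}) =
      1 + s₁ + s₂ := by
    refine (ENat.addLECancellable_of_ne_top ENat.one_ne_top).inj_left.1 ?_
    rw [length_node_reduced a b, length_span_t_mul_e, length_span_e_mul_t]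
    ring
  have h2 : Module.length (NodeAlg B π) (NodeAlg B π ⧸ Ideal.span {ρ, a}) =
      (p : ℕ∞) * s₁ + (q : ℕ∞) * s₂ := by
    rcases Nat.eq_zero_or_pos p with rfl | hp
    · obtain rfl : q = 0 := by omega
      rw [show Ideal.span {ρ, a} = ⊤ by
        rw [Ideal.eq_top_iff_one]; exact Ideal.subset_span (by simp [hρ]), length_quotient_top]
      simp
    · have hρt : t π ∣ ρ := Dvd.dvd.mul_right (dvd_pow_self _ (by omega)) _
      have hta : ¬ t π ∣ a := fun h => htb (by
        rw [hb]; exact Dvd.dvd.mul_left (dvd_sub (hρt.mul_left _) h) _)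
      have e1 : Ideal.span {a} ⊔ Ideal.span {t π} = Ideal.span {t π, b} := by
        rw [← Ideal.span_insert]
        apply le_antisymm <;> rw [Ideal.span_le]
        · rintro w (rfl | rfl)
          · obtain ⟨c, hc⟩ := hρt
            exact Ideal.mem_span_pair.2 ⟨γ * c, -α, by rw [hc] at hab; linear_combination -hab⟩
          · exact Ideal.subset_span (by simp)
        · rintro w (rfl | rfl)
          · exact Ideal.subset_span (by simp)
          · obtain ⟨c, hc⟩ := hρt
            rw [hb, hc]
            exact Ideal.mul_mem_left _ _ (Ideal.mem_span_pair.2 ⟨-1, γ * c, by ring⟩)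
      rw [show Ideal.span {ρ, a} = Ideal.span {a} ⊔ Ideal.span {ρ} by
          rw [Ideal.span_insert, sup_comm], hρ,
        length_mul _ _ _ (fun z => length_colon_pow_regular (T_regular_mod hπ0 0 hta) p z),
        length_pow _ _ (T_regular_mod hπ0 0 hta), length_pow _ _ (T_regular_mod hπ0 1 hea), e1,
        sup_comm (Ideal.span {a}), ← Ideal.span_insert]
  rw [h1, h2]
  push_cast
  ring

/-- The residual length when one branch is fixed to maximal order. -/
theorem length_core' (hπ0 : π ≠ 0) (p : ℕ) (α : (NodeAlg B π)ˣ) {γ a b : NodeAlg B π}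
    (hab : (α : NodeAlg B π) * b + e π * a = γ * t π ^ p) (htb : ¬ t π ∣ b) :
    Module.length (NodeAlg B π) (NodeAlg B π ⧸ Ideal.span {t π ^ (p + 1), a * t π, b}) + (p : ℕ∞) =
      ((p + 1 : ℕ) : ℕ∞) *
        Module.length (NodeAlg B π) (NodeAlg B π ⧸ Ideal.span {t π, b}) := by
  have := isDomain_node (π := π) hπ0
  have hb : b = (α⁻¹ : (NodeAlg B π)ˣ) * (γ * t π ^ p - e π * a) := by
    rw [← hab, add_sub_cancel_right, Units.inv_mul_cancel_left]
  have hcol : ∀ z, t π * z ∈ Ideal.span {t π ^ (p + 1), a * t π, b} ↔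
      z ∈ Ideal.span {t π ^ p, a} := by
    intro z
    constructor
    · intro hz
      obtain ⟨u, w₁, hw₁, hu⟩ := Ideal.mem_span_insert.1 hz
      obtain ⟨v, w, hw⟩ := Ideal.mem_span_pair.1 hw₁
      obtain ⟨w', rfl⟩ : t π ∣ w := by
        refine (T_prime_dvd 0 (z := w) (w := b) ?_).resolve_right htb
        exact ⟨z - u * t π ^ p - v * a, by
          show w * b = t π * _
          rw [pow_succ] at hu
          linear_combination hw - hu⟩
      have hz' : z = u * t π ^ p + v * a + w' * b := by
        refine mul_left_cancel₀ (T_ne_zero (π := π) 0) ?_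
        show t π * z = t π * _
        rw [hu, ← hw]
        ring
      rw [hz', hb]
      refine Ideal.mem_span_pair.2 ⟨u + w' * (α⁻¹ : (NodeAlg B π)ˣ) * γ,
        v - w' * (α⁻¹ : (NodeAlg B π)ˣ) * e π, by ring⟩
    · intro hz
      obtain ⟨u, v, rfl⟩ := Ideal.mem_span_pair.1 hz
      rw [show t π * (u * t π ^ p + v * a) = u * t π ^ (p + 1) + v * (a * t π) by ring]
      exact Ideal.add_mem _ (Ideal.mul_mem_left _ _ (Ideal.subset_span (by simp)))
        (Ideal.mul_mem_left _ _ (Ideal.subset_span (by simp)))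
  rw [length_colon _ _ _ hcol, show Ideal.span {t π ^ (p + 1), a * t π, b} ⊔ Ideal.span {t π} =
    Ideal.span {t π, b} from ?_]
  · rcases Nat.eq_zero_or_pos p with rfl | hp
    · rw [show Ideal.span {t π ^ 0, a} = ⊤ by
        rw [Ideal.eq_top_iff_one]; exact Ideal.subset_span (by simp), length_quotient_top]
      simp
    · have htp : t π ∣ t π ^ p := dvd_pow_self _ (by omega)
      have hta : ¬ t π ∣ a := fun h => htb (by
        rw [hb]; exact Dvd.dvd.mul_left (dvd_sub (htp.mul_left _) (h.mul_left _)) _)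
      have e1 : Ideal.span {t π, b} = Ideal.span {t π, a * e π} := by
        obtain ⟨c, hc⟩ := htp
        apply le_antisymm <;> rw [Ideal.span_le]
        · rintro w (rfl | rfl)
          · exact Ideal.subset_span (by simp)
          · rw [hb, hc]
            exact Ideal.mul_mem_left _ _ (Ideal.mem_span_pair.2 ⟨γ * c, -1, by ring⟩)
        · rintro w (rfl | rfl)
          · exact Ideal.subset_span (by simp)
          · exact Ideal.mem_span_pair.2 ⟨γ * c, -α, by rw [hc] at hab; linear_combination -hab⟩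
      rw [show Ideal.span {t π ^ p, a} = Ideal.span {a} ⊔ Ideal.span {t π ^ p} by
          rw [Ideal.span_insert, sup_comm], length_pow _ _ (T_regular_mod hπ0 0 hta), e1,
        length_span_t_mul_e, sup_comm (Ideal.span {a}), ← Ideal.span_insert]
      push_cast
      ring
  · refine le_antisymm (sup_le (Ideal.span_le.2 ?_) (Ideal.span_mono (by simp))) (Ideal.span_le.2 ?_)
    · rintro w (rfl | rfl | rfl)
      · rw [pow_succ]; exact Ideal.mul_mem_left _ _ (Ideal.subset_span (by simp))
      · exact Ideal.mul_mem_left _ _ (Ideal.subset_span (by simp))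
      · exact Ideal.subset_span (by simp)
    · rintro w (rfl | rfl)
      · exact Ideal.mem_sup_right (Ideal.mem_span_singleton_self _)
      · exact Ideal.mem_sup_left (Ideal.subset_span (by simp))

/-- The colon ideal of `g • K` by `g`. -/
theorem colon_eq_of_mul_span {A : Type*} [CommRing A] [IsDomain A] {I : Ideal A} {g : A}
    (hg : g ≠ 0) (x y z : A) (hI : I = Ideal.span {g * x, g * y, g * z}) :
    I.colon ({g} : Set A) = Ideal.span {x, y, z} := by
  ext w
  rw [Submodule.mem_colon_singleton, smul_eq_mul, hI,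
    show ({g * x, g * y, g * z} : Set A) = {g} * ({x, y, z} : Set A) by
      rw [Set.singleton_mul, Set.image_insert_eq, Set.image_insert_eq, Set.image_singleton], ← Ideal.span_mul_span',
    Ideal.mem_span_singleton_mul]
  exact ⟨fun ⟨v, hv, e⟩ => by rwa [show w = v from mul_left_cancel₀ hg (e.symm ▸ mul_comm g w)],
    fun h => ⟨w, h, mul_comm _ _⟩⟩

/-- Membership data for `h = t - α e` when the branches are switched. -/
theorem e_regular_mod_switch (α : (NodeAlg B π)ˣ) (hπ0 : π ≠ 0) (z : NodeAlg B π)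
    (hz : e π * z ∈ Ideal.span {t π - α * e π}) : z ∈ Ideal.span {t π - α * e π} := by
  have := isDomain_node (π := π) hπ0
  obtain ⟨w, hw⟩ := Ideal.mem_span_singleton.1 hz
  obtain ⟨w', rfl⟩ : e π ∣ w := by
    rw [← T_one, ← branchN_eq_zero_iff]
    have h := congrArg (branchN π 1) hw
    rw [map_mul, map_mul, map_sub, map_mul, show branchN π 1 (e π) = 0 from branchN_T_self 1,
      show branchN π 1 (t π) = PowerSeries.X from branchN_T_rev 1, zero_mul, mul_zero, sub_zero]
      at h
    exact (mul_eq_zero.1 h.symm).resolve_left PowerSeries.X_ne_zero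
  exact Ideal.mem_span_singleton.2
    ⟨w', mul_left_cancel₀ (T_ne_zero (π := π) 1) (by rw [T_one, hw]; ring)⟩

theorem switch_notMem_sq (α : (NodeAlg B π)ˣ) :
    t π - α * e π ∉ Ideal.span ({t π, e π} : Set (NodeAlg B π)) ^ 2 := fun h => by
  have h' := Ideal.mem_map_of_mem (branchN π 0) h
  rw [Ideal.map_pow, Ideal.map_span, Set.image_pair, show branchN π 0 (t π) = 0 from branchN_T_self 0,
    show branchN π 0 (e π) = PowerSeries.X from branchN_T_rev 0, Ideal.span_insert_zero,
    Ideal.span_singleton_pow, Ideal.mem_span_singleton] at h'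
  rw [map_sub, map_mul, show branchN π 0 (t π) = 0 from branchN_T_self 0,
    show branchN π 0 (e π) = PowerSeries.X from branchN_T_rev 0, zero_sub, dvd_neg] at h'
  have h1 := PowerSeries.X_pow_dvd_iff.1 h' 1 (by omega)
  rw [PowerSeries.coeff_succ_mul_X, PowerSeries.coeff_zero_eq_constantCoeff] at h1
  exact not_isUnit_zero (h1 ▸ PowerSeries.isUnit_iff_constantCoeff.1 (α.isUnit.map (branchN π 0)))

theorem switch_sup_e (α : (NodeAlg B π)ˣ) :
    Ideal.span {t π - α * e π} ⊔ Ideal.span {e π} = IsLocalRing.maximalIdeal (NodeAlg B π) := by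
  rw [maximalIdeal_node, ← Ideal.span_insert]
  apply le_antisymm <;> rw [Ideal.span_le]
  · rintro w (rfl | rfl)
    · exact Ideal.mem_span_pair.2 ⟨1, -α, by ring⟩
    · exact Ideal.subset_span (by simp)
  · rintro w (rfl | rfl)
    · exact Ideal.mem_span_pair.2 ⟨1, α, by ring⟩
    · exact Ideal.subset_span (by simp)

end Groth.Agent.ArLef32
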