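import Groth.Prelude.Def_W4c2arithlefschetzNode
import Mathlib.RingTheory.Filtration
import Mathlib.RingTheory.Length
import Mathlib.RingTheory.LocalRing.Basic
import Mathlib.Tactic.LinearCombination
import Mathlib.Tactic.Ring

/-!
# Fixed-point ideals and lengths of quotients
-/

set_option autoImplicit false

namespace Groth.Agent.ArLef32

universe u

variable {A : Type u} [CommRing A]

theorem sub_mem_fixIdeal (σ : A → A) (r : A) : σ r - r ∈ ArLef.fixIdeal σ :=
  Ideal.subset_span ⟨r, rfl⟩

/-- The elements moved by `σ` within `J` form a subring. -/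
def moved (σ : A →+* A) (J : Ideal A) : Subring A where
  carrier := {r | σ r - r ∈ J}
  zero_mem' := by simp
  one_mem' := by simp
  add_mem' {a b} ha hb := by
    simp only [Set.mem_setOf_eq] at ha hb ⊢
    rw [map_add, add_sub_add_comm]
    exact J.add_mem ha hb
  neg_mem' {a} ha := by
    simp only [Set.mem_setOf_eq] at ha ⊢
    rw [map_neg, ← neg_sub', J.neg_mem_iff]
    exact ha
  mul_mem' {a b} ha hb := by
    simp only [Set.mem_setOf_eq] at ha hb ⊢
    rw [map_mul, show σ a * σ b - a * b = σ a * (σ b - b) + b * (σ a - a) by ring]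
    exact J.add_mem (J.mul_mem_left _ hb) (J.mul_mem_left _ ha)

/-- For a ring generated up to completion by a subset `G` of the maximal ideal over the image of `f`,
the fixed-point ideal lies in `J` as soon as `σ r - r` does for `r` in `G` and in the image. -/
theorem fixIdeal_le [IsLocalRing A] [IsNoetherianRing A] {B : Type*} [CommRing B] (f : B →+* A)
    (σ : A ≃+* A) (G : Set A) (hG : IsLocalRing.maximalIdeal A = Ideal.span G)
    (hres : ∀ z : A, ∃ b, z - f b ∈ IsLocalRing.maximalIdeal A) (J : Ideal A)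
    (hB : ∀ b, σ (f b) - f b ∈ J) (hgen : ∀ g ∈ G, σ g - g ∈ J) :
    ArLef.fixIdeal σ ≤ J := by
  rw [ArLef.fixIdeal, Ideal.span_le]
  rintro _ ⟨r, rfl⟩
  set S := moved σ.toRingHom J
  have happ : ∀ n : ℕ, ∀ z : A, ∃ w ∈ S, z - w ∈ IsLocalRing.maximalIdeal A ^ n := by
    intro n
    induction n with
    | zero => exact fun z => ⟨0, S.zero_mem, by simp⟩
    | succ n ih =>
      intro z
      obtain ⟨b, hb⟩ := hres z
      suffices ∀ y ∈ Ideal.span G, ∃ w ∈ S, y - w ∈ IsLocalRing.maximalIdeal A ^ (n + 1) by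
        obtain ⟨w, hw, hw'⟩ := this _ (hG ▸ hb)
        exact ⟨f b + w, S.add_mem (hB b) hw, by rwa [← sub_sub]⟩
      intro y hy
      induction hy using Submodule.span_induction with
      | mem g hg => exact ⟨g, hgen g hg, by simp⟩
      | zero => exact ⟨0, S.zero_mem, by simp⟩
      | add y y' hy hy' h h' =>
        obtain ⟨w, hw, e⟩ := h
        obtain ⟨w', hw', e'⟩ := h'
        exact ⟨w + w', S.add_mem hw hw', by
          rw [add_sub_add_comm]; exact Ideal.add_mem _ e e'⟩
      | smul c y hy h =>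
        obtain ⟨w, hw, e⟩ := h
        obtain ⟨c', hc', ec⟩ := ih c
        refine ⟨c' * w, S.mul_mem hc' hw, ?_⟩
        rw [smul_eq_mul, show c * y - c' * w = (c - c') * y + c' * (y - w) by ring]
        refine Ideal.add_mem _ ?_ (Ideal.mul_mem_left _ _ e)
        rw [pow_succ]
        exact Ideal.mul_mem_mul ec (hG ▸ hy)
  have hmap : ∀ n : ℕ, ∀ y ∈ IsLocalRing.maximalIdeal A ^ n,
      σ y ∈ IsLocalRing.maximalIdeal A ^ n := fun n y hy => by
    have h : Ideal.map σ.toRingHom (IsLocalRing.maximalIdeal A ^ n) ≤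
        IsLocalRing.maximalIdeal A ^ n := by
      rw [Ideal.map_pow]
      refine Ideal.pow_right_mono (Ideal.map_le_iff_le_comap.2 fun x hx => ?_) n
      rw [Ideal.mem_comap, IsLocalRing.mem_maximalIdeal, mem_nonunits_iff]
      exact fun hu => hx (by simpa using hu.map σ.symm.toRingHom)
    exact h (Ideal.mem_map_of_mem _ hy)
  show σ r - r ∈ J
  rcases eq_or_ne J ⊤ with rfl | hJ
  · trivial
  have : Nontrivial (A ⧸ J) := Ideal.Quotient.nontrivial_iff.2 hJ
  have : IsLocalRing (A ⧸ J) :=
    IsLocalRing.of_surjective' (Ideal.Quotient.mk J) Ideal.Quotient.mk_surjective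
  have : IsNoetherianRing (A ⧸ J) :=
    isNoetherianRing_of_surjective _ _ (Ideal.Quotient.mk J) Ideal.Quotient.mk_surjective
  rw [← Ideal.Quotient.eq_zero_iff_mem, ← Ideal.mem_bot,
    ← Ideal.iInf_pow_eq_bot_of_isLocalRing ((IsLocalRing.maximalIdeal A).map (Ideal.Quotient.mk J))
      (fun h => ?_), Ideal.mem_iInf]
  · intro n
    obtain ⟨w, hw, e⟩ := happ n r
    rw [← Ideal.map_pow]
    have hsub : σ r - r = (σ w - w) + (σ (r - w) - (r - w)) := by rw [map_sub]; ring
    rw [hsub, map_add, (Ideal.Quotient.eq_zero_iff_mem).2 (show σ w - w ∈ J from hw), zero_add]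
    exact Ideal.mem_map_of_mem _ (Ideal.sub_mem _ (hmap n _ e) e)
  · have h' : (IsLocalRing.maximalIdeal A).map (Ideal.Quotient.mk J) ≤
        IsLocalRing.maximalIdeal (A ⧸ J) := by
      refine Ideal.map_le_iff_le_comap.2 fun x hx => ?_
      rw [Ideal.mem_comap, IsLocalRing.mem_maximalIdeal, mem_nonunits_iff]
      intro hu
      obtain ⟨y, hy⟩ := hu.exists_right_inv
      obtain ⟨y, rfl⟩ := Ideal.Quotient.mk_surjective y
      rw [← map_mul, ← map_one (Ideal.Quotient.mk J), Ideal.Quotient.eq] at hy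
      have hJm := IsLocalRing.le_maximalIdeal hJ hy
      exact (IsLocalRing.maximalIdeal.isMaximal A).ne_top ((Ideal.eq_top_iff_one _).2
        (by simpa using Ideal.sub_mem _ (Ideal.mul_mem_right y _ hx) hJm))
    exact (IsLocalRing.maximalIdeal.isMaximal (A ⧸ J)).ne_top (top_le_iff.1 (h ▸ h'))

/-- Additivity of length along multiplication by `x`. -/
theorem length_colon (K K' : Ideal A) (x : A) (h : ∀ z, x * z ∈ K ↔ z ∈ K') :
    Module.length A (A ⧸ K) =
      Module.length A (A ⧸ (K ⊔ Ideal.span {x})) + Module.length A (A ⧸ K') := by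
  have hle : K' ≤ Submodule.comap (LinearMap.lsmul A A x) K := fun z hz => (h z).2 hz
  rw [add_comm]
  refine Module.length_eq_add_of_exact (Submodule.mapQ _ _ (LinearMap.lsmul A A x) hle)
    (Submodule.factor le_sup_left) ?_ (Submodule.factor_surjective _) ?_
  · rw [injective_iff_map_eq_zero]
    intro z hz
    obtain ⟨z, rfl⟩ := Submodule.Quotient.mk_surjective _ z
    rw [Submodule.mapQ_apply, Submodule.Quotient.mk_eq_zero] at hz
    rw [Submodule.Quotient.mk_eq_zero]
    exact (h z).1 hz
  · intro y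
    obtain ⟨y, rfl⟩ := Submodule.Quotient.mk_surjective _ y
    rw [Submodule.factor, Submodule.mapQ_apply, LinearMap.id_apply, Submodule.Quotient.mk_eq_zero]
    constructor
    · intro hy
      obtain ⟨i, hi, w, hw, rfl⟩ := Submodule.mem_sup.1 hy
      obtain ⟨p, rfl⟩ := Ideal.mem_span_singleton'.1 hw
      refine ⟨Submodule.Quotient.mk p, ?_⟩
      rw [Submodule.mapQ_apply, Submodule.Quotient.eq, LinearMap.lsmul_apply, smul_eq_mul,
        show x * p - (i + p * x) = -i by ring]
      exact neg_mem hi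
    · rintro ⟨p, hp⟩
      obtain ⟨p, rfl⟩ := Submodule.Quotient.mk_surjective _ p
      rw [Submodule.mapQ_apply, Submodule.Quotient.eq, LinearMap.lsmul_apply, smul_eq_mul] at hp
      have h1 := Ideal.mem_sup_right (S := K) (Ideal.mul_mem_right p _ (Ideal.mem_span_singleton_self x))
      simpa using sub_mem h1 (Ideal.mem_sup_left (T := Ideal.span {x}) hp)

/-- The length of a product, for a factor regular modulo `J`. -/
theorem length_mul (J : Ideal A) (x y : A) (hreg : ∀ z, x * z ∈ J → z ∈ J) :
    Module.length A (A ⧸ (J ⊔ Ideal.span {x * y})) =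
      Module.length A (A ⧸ (J ⊔ Ideal.span {x})) + Module.length A (A ⧸ (J ⊔ Ideal.span {y})) := by
  rw [length_colon (J ⊔ Ideal.span {x * y}) (J ⊔ Ideal.span {y}) x fun z => ?_]
  · rw [show J ⊔ Ideal.span {x * y} ⊔ Ideal.span {x} = J ⊔ Ideal.span {x} from
      le_antisymm (sup_le (sup_le le_sup_left ((Ideal.span_singleton_le_iff_mem _).2
        (Ideal.mem_sup_right (Ideal.mul_mem_right _ _ (Ideal.mem_span_singleton_self _)))))
          le_sup_right)
        (sup_le (le_sup_left.trans le_sup_left) le_sup_right)]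
  · simp only [Submodule.mem_sup, Ideal.mem_span_singleton']
    constructor
    · rintro ⟨j, hj, _, ⟨c, rfl⟩, e⟩
      refine ⟨z - c * y, hreg _ ?_, c * y, ⟨c, rfl⟩, sub_add_cancel _ _⟩
      rw [show x * (z - c * y) = j by linear_combination -e]
      exact hj
    · rintro ⟨j, hj, _, ⟨c, rfl⟩, rfl⟩
      exact ⟨x * j, J.mul_mem_left x hj, c * (x * y), ⟨c, rfl⟩, by ring⟩

theorem length_pow (J : Ideal A) (x : A) (hreg : ∀ z, x * z ∈ J → z ∈ J) (n : ℕ) :
    Module.length A (A ⧸ (J ⊔ Ideal.span {x ^ n})) =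
      (n : ℕ∞) * Module.length A (A ⧸ (J ⊔ Ideal.span {x})) := by
  induction n with
  | zero =>
    rw [pow_zero, Ideal.span_singleton_one, sup_top_eq, Nat.cast_zero, zero_mul,
      Module.length_eq_zero_iff]
    exact Submodule.Quotient.subsingleton_iff.2 rfl
  | succ n ih => rw [pow_succ', length_mul J x _ hreg, ih, Nat.cast_succ, add_mul, one_mul, add_comm]

/-- Two ideals whose intersection is `K`. -/
theorem length_add_eq_of_inf (K K₁ K₂ : Ideal A) (h₁ : K ≤ K₁) (h₂ : K ≤ K₂) (hinf : K₁ ⊓ K₂ ≤ K) :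
    Module.length A (A ⧸ K) + Module.length A (A ⧸ (K₁ ⊔ K₂)) =
      Module.length A (A ⧸ K₁) + Module.length A (A ⧸ K₂) := by
  rw [← Module.length_prod A (A ⧸ K₁) (A ⧸ K₂)]
  refine (Module.length_eq_add_of_exact ((Submodule.factor h₁).prod (Submodule.factor h₂))
    ((Submodule.factor (le_sup_left : K₁ ≤ K₁ ⊔ K₂)).coprod
      (-Submodule.factor (le_sup_right : K₂ ≤ K₁ ⊔ K₂))) ?_ ?_ ?_).symm
  · rw [injective_iff_map_eq_zero]
    intro z hz
    obtain ⟨z, rfl⟩ := Submodule.Quotient.mk_surjective _ z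
    simp only [LinearMap.prod_apply, Function.prod_apply, Prod.mk_eq_zero, Submodule.factor,
      Submodule.mapQ_apply, LinearMap.id_apply, Submodule.Quotient.mk_eq_zero] at hz
    rw [Submodule.Quotient.mk_eq_zero]
    exact hinf hz
  · intro w
    obtain ⟨w, rfl⟩ := Submodule.Quotient.mk_surjective _ w
    exact ⟨(Submodule.Quotient.mk w, 0), by rw [LinearMap.coprod_apply, map_zero, add_zero]; rfl⟩
  · rintro ⟨p, q⟩
    obtain ⟨p, rfl⟩ := Submodule.Quotient.mk_surjective _ p
    obtain ⟨q, rfl⟩ := Submodule.Quotient.mk_surjective _ q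
    simp only [LinearMap.coprod_apply, LinearMap.neg_apply, Submodule.factor, Submodule.mapQ_apply,
      LinearMap.id_apply, ← sub_eq_add_neg, ← Submodule.Quotient.mk_sub,
      Submodule.Quotient.mk_eq_zero]
    constructor
    · intro h
      obtain ⟨i, hi, j, hj, e⟩ := Submodule.mem_sup.1 h
      refine ⟨Submodule.Quotient.mk (p - i), Prod.ext ?_ ?_⟩
      · show (Submodule.Quotient.mk (p - i) : A ⧸ K₁) = Submodule.Quotient.mk p
        rw [Submodule.Quotient.eq, show p - i - p = -i by ring]
        exact neg_mem hi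
      · simp only [LinearMap.prod_apply, Function.prod_apply, Submodule.factor,
          Submodule.mapQ_apply, LinearMap.id_apply, Submodule.Quotient.eq]
        rw [show p - i - q = j by linear_combination -e]
        exact hj
    · rintro ⟨z, hz⟩
      obtain ⟨z, rfl⟩ := Submodule.Quotient.mk_surjective _ z
      simp only [LinearMap.prod_apply, Function.prod_apply, Submodule.factor, Submodule.mapQ_apply,
        LinearMap.id_apply, Prod.ext_iff, Submodule.Quotient.eq] at hz
      rw [show p - q = (z - q) - (z - p) by ring]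
      exact Ideal.sub_mem _ (Ideal.mem_sup_right hz.2) (Ideal.mem_sup_left hz.1)

theorem length_quotient_maximal [IsLocalRing A] :
    Module.length A (A ⧸ IsLocalRing.maximalIdeal A) = 1 := by
  rw [Module.length_eq_one_iff, isSimpleModule_iff_isCoatom]
  exact (IsLocalRing.maximalIdeal.isMaximal A).out

theorem length_quotient_top : Module.length A (A ⧸ (⊤ : Ideal A)) = 0 := by
  rw [Module.length_eq_zero_iff]
  exact Submodule.Quotient.subsingleton_iff.2 rfl

end Groth.Agent.ArLef32
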