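import Groth.Prelude.Def_W4c2arithlefschetzGraph
import Mathlib.Data.Matrix.Mul
import Mathlib.LinearAlgebra.Matrix.ToLinearEquiv
import Mathlib.LinearAlgebra.Matrix.DotProduct
import Mathlib.Algebra.Order.BigOperators.Ring.Finset

/-!
# The intersection matrix of iterated point blow-ups: `M = -U Uᵀ` with `U` inverse to total transforms
-/

set_option autoImplicit false

namespace Groth.Agent.ArLef32

open Finset ArLef BlowupGraph Matrix

variable {n : ℕ} (G : ArLef.BlowupGraph n)

/-- Total transforms as a rational matrix. -/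
def tmat : Matrix (Fin n) (Fin n) ℚ := fun k m => (G.tt k m : ℚ)

/-- Strict transforms expressed in total transforms. -/
def umat : Matrix (Fin n) (Fin n) ℚ :=
  fun p k => (if p = k then 1 else 0) - (if p ∈ G.par k then 1 else 0)

theorem tt_rec (k m : Fin n) :
    G.tt k m = (if k = m then 1 else 0) + ∑ q ∈ G.par m, G.tt k q := by
  have hsum : ∑ p ∈ (G.parN m.1).attach, G.ttN k.1 p.1 = ∑ q ∈ G.par m, G.tt k q := by
    rw [Finset.sum_attach (G.parN m.1) fun p => G.ttN k.1 p]
    have : G.parN m.1 = (G.par m).map Fin.valEmbedding := by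
      simp [BlowupGraph.parN, m.isLt]
    rw [this, Finset.sum_map]
    rfl
  have hlt : ∀ q ∈ G.par m, m.1 ≤ k.1 → G.tt k q = 0 := fun q hq hle => by
    rw [BlowupGraph.tt, BlowupGraph.ttN, if_pos]
    exact lt_of_lt_of_le (G.par_lt m q hq) hle
  rw [BlowupGraph.tt, BlowupGraph.ttN, hsum]
  rcases lt_trichotomy m.1 k.1 with h | h | h
  · rw [if_pos h, if_neg (fun e => by rw [e] at h; exact lt_irrefl _ h),
      Finset.sum_eq_zero fun q hq => hlt q hq h.le, add_zero]
  · rw [if_neg (by omega), if_pos h, if_pos (Fin.ext h.symm),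
      Finset.sum_eq_zero fun q hq => hlt q hq h.le, add_zero]
  · rw [if_neg (by omega), if_neg (by omega),
      if_neg (fun e => by rw [e] at h; exact lt_irrefl _ h), zero_add]

theorem tmat_mul_umat : tmat G * umat G = 1 := by
  ext k m
  simp only [Matrix.mul_apply, umat, mul_sub, mul_ite, mul_one, mul_zero, Finset.sum_sub_distrib,
    Finset.sum_ite_eq', Finset.mem_univ, if_true, ← Finset.sum_filter, Matrix.one_apply]
  rw [Finset.filter_mem_eq_inter, Finset.univ_inter, sub_eq_iff_eq_add]
  simp only [tmat]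
  rw [tt_rec G k m]
  push_cast
  rfl

theorem umat_mul_tmat : umat G * tmat G = 1 := mul_eq_one_comm.1 (tmat_mul_umat G)

theorem common_children {p q : Fin n} (hpq : p < q) :
    ((univ.filter fun k => p ∈ G.par k ∧ q ∈ G.par k).card : ℤ) =
      (if p ∈ G.par q then 1 else 0) - (if G.Adj p q then 1 else 0) := by
  have hqp : q ∉ G.par p := fun h => lt_asymm hpq (G.par_lt p q h)
  have hset : ∀ k, (p ∈ G.par k ∧ q ∈ G.par k) ↔ G.par k = {p, q} := fun k => by
    constructor
    · rintro ⟨h1, h2⟩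
      symm
      apply Finset.eq_of_subset_of_card_le
      · simp [Finset.insert_subset_iff, h1, h2]
      · rw [Finset.card_pair hpq.ne]; exact G.card_le_two k
    · intro h; rw [h]; simp
  have hAdj : G.Adj p q ↔ p ∈ G.par q ∧ ∀ m, q < m → G.par m ≠ {p, q} := by
    simp [BlowupGraph.Adj, hqp]
  simp only [hset]
  by_cases hp : p ∈ G.par q
  swap
  · rw [if_neg hp, if_neg (fun h => hp (hAdj.1 h).1), sub_zero]
    simp only [Nat.cast_eq_zero, Finset.card_eq_zero, Finset.filter_eq_empty_iff]
    intro k _ hk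
    obtain ⟨h1, h2⟩ := (hset k).2 hk
    exact hp (G.meet_of_two k p q h1 h2 hpq).1
  by_cases he : ∃ k, G.par k = {p, q}
  · obtain ⟨k, hk⟩ := he
    have hk' := (hset k).2 hk
    have h1 : (univ.filter fun k => G.par k = {p, q}) = {k} := by
      ext l
      simp only [Finset.mem_filter, Finset.mem_univ, true_and, Finset.mem_singleton]
      refine ⟨fun hl => ?_, fun h => h ▸ hk⟩
      have hl' := (hset l).2 hl
      rcases lt_trichotomy l k with h | h | h
      · exact absurd hl ((G.meet_of_two k p q hk'.1 hk'.2 hpq).2 l (G.par_lt l q hl'.2) h)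
      · exact h
      · exact absurd hk ((G.meet_of_two l p q hl'.1 hl'.2 hpq).2 k (G.par_lt k q hk'.2) h)
    rw [h1, if_pos hp, if_neg (fun h => (hAdj.1 h).2 k (G.par_lt k q hk'.2) hk)]
    simp
  · push Not at he
    rw [if_pos hp, if_pos (hAdj.2 ⟨hp, fun m _ => he m⟩)]
    simp [he]

theorem mat_symm (p q : Fin n) : G.mat p q = G.mat q p := by
  rcases eq_or_ne p q with rfl | h
  · rfl
  · simp [BlowupGraph.mat, h, h.symm, BlowupGraph.Adj, or_comm]

theorem mat_eq_neg : G.mat = -(umat G * (umat G)ᵀ) := by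
  ext p q
  wlog hle : p ≤ q generalizing p q with H
  · rw [mat_symm, H q p (le_of_not_ge hle)]
    simp only [Matrix.neg_apply, Matrix.mul_apply, Matrix.transpose_apply, mul_comm]
  simp only [Matrix.neg_apply, Matrix.mul_apply, Matrix.transpose_apply]
  rcases hle.eq_or_lt with rfl | hlt
  · have hsq : ∀ k, umat G p k * umat G p k =
        (if p = k then 1 else 0) + (if p ∈ G.par k then 1 else 0) := fun k => by
      rcases eq_or_ne p k with rfl | h
      · have hpp : p ∉ G.par p := fun h => lt_irrefl p (G.par_lt p p h)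
        simp [umat, hpp]
      · by_cases h' : p ∈ G.par k <;> simp [umat, h, h']
    simp only [hsq, Finset.sum_add_distrib, Finset.sum_ite_eq, Finset.mem_univ, if_true,
      Finset.sum_boole, BlowupGraph.mat, BlowupGraph.selfInt]
    push_cast
    ring
  · have hqp : q ∉ G.par p := fun h => lt_asymm hlt (G.par_lt p q h)
    have hpp : p ∉ G.par p := fun h => lt_irrefl p (G.par_lt p p h)
    have hqq : q ∉ G.par q := fun h => lt_irrefl q (G.par_lt q q h)
    have hsum : ∑ k, umat G p k * umat G q k =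
        -(if p ∈ G.par q then (1 : ℚ) else 0) +
          ((univ.filter fun k => p ∈ G.par k ∧ q ∈ G.par k).card : ℚ) := by
      have hk : ∀ k, umat G p k * umat G q k =
          (if q = k then -(if p ∈ G.par q then (1 : ℚ) else 0) else 0) +
            (if p ∈ G.par k ∧ q ∈ G.par k then 1 else 0) := fun k => by
        rcases eq_or_ne p k with rfl | h1
        · simp [umat, hqp, hpp, hlt.ne']
        rcases eq_or_ne q k with rfl | h2
        · by_cases h3 : p ∈ G.par q <;> simp [umat, hqq, h1, h3]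
        by_cases h3 : p ∈ G.par k <;> by_cases h4 : q ∈ G.par k <;> simp [umat, h1, h2, h3, h4]
      simp only [hk, Finset.sum_add_distrib, Finset.sum_ite_eq, Finset.mem_univ, if_true,
        Finset.sum_boole]
    have hc := congrArg (fun z : ℤ => (z : ℚ)) (common_children G hlt)
    push_cast at hc
    rw [hsum, hc, BlowupGraph.mat, if_neg hlt.ne]
    ring

theorem mult_eq (i j : Fin n) : (G.mult i j : ℚ) = ((tmat G)ᵀ * tmat G) i j := by
  simp [BlowupGraph.mult, Matrix.mul_apply, tmat]

theorem mat_mul_mult : G.mat * ((tmat G)ᵀ * tmat G) = -1 := by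
  rw [mat_eq_neg, Matrix.neg_mul, neg_inj, Matrix.mul_assoc, ← Matrix.mul_assoc (umat G)ᵀ,
    ← Matrix.transpose_mul, tmat_mul_umat, Matrix.transpose_one, Matrix.one_mul, umat_mul_tmat]

theorem isUnit_sub_mat (I : Finset (Fin n)) :
    IsUnit (G.mat.submatrix (fun x : I => x.1) (fun x : I => x.1)).det := by
  rw [isUnit_iff_ne_zero]
  intro h0
  obtain ⟨v, hv, hv0⟩ := Matrix.exists_mulVec_eq_zero_iff.2 h0
  set w : Fin n → ℚ := fun p => if hp : p ∈ I then v ⟨p, hp⟩ else 0
  have hwI : ∀ x : I, w x.1 = v x := fun x => dif_pos x.2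
  have hres : ∀ f : Fin n → ℚ, (∑ p, f p * w p) = ∑ x : I, f x.1 * v x := fun f => by
    simp only [← hwI]
    rw [Finset.sum_coe_sort I fun p => f p * w p]
    refine (Finset.sum_subset (Finset.subset_univ I) fun p _ hp => ?_).symm
    simp [w, dif_neg hp]
  have hq : w ⬝ᵥ (G.mat *ᵥ w) = 0 := by
    refine Finset.sum_eq_zero fun p _ => ?_
    by_cases hp : p ∈ I
    · rw [show (G.mat *ᵥ w) p = 0 from
        (hres (G.mat p)).trans (congrFun hv0 ⟨p, hp⟩), mul_zero]
    · simp [w, dif_neg hp]
  rw [mat_eq_neg, Matrix.neg_mulVec, dotProduct_neg, neg_eq_zero, ← Matrix.mulVec_mulVec,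
    Matrix.dotProduct_mulVec, ← Matrix.mulVec_transpose, dotProduct_self_eq_zero] at hq
  have hw : w = 0 := by
    have h := congrArg (fun z => (tmat G)ᵀ *ᵥ z) hq
    simpa [Matrix.mulVec_mulVec, ← Matrix.transpose_mul, umat_mul_tmat] using h
  exact hv (funext fun x => by rw [← hwI, hw]; rfl)

theorem pairing_eq_zero {I : Finset (Fin n)} (a : Fin n) {j : Fin n} (hj : j ∈ I) :
    G.pairing I a j = 0 := by
  have h := Matrix.nonsing_inv_mul _ (isUnit_sub_mat G I)
  have hkey : ∀ x : I, ∑ b : I,
      (G.mat.submatrix (fun x : I => x.1) (fun x : I => x.1))⁻¹ x b * G.mat b.1 j =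
        if x = (⟨j, hj⟩ : I) then 1 else 0 := fun x => by
    simpa [Matrix.mul_apply, Matrix.one_apply] using congrFun (congrFun h x) ⟨j, hj⟩
  rw [BlowupGraph.pairing]
  simp only [mul_assoc, ← Finset.mul_sum, hkey, mul_ite, mul_one, mul_zero, Finset.sum_ite_eq',
    Finset.mem_univ, if_true, sub_self]

theorem lNum_eq (I : Finset (Fin n)) (σ : Equiv.Perm (Fin n)) :
    G.lNum I σ = BlowupGraph.rNum I σ := by
  have hQ : ∀ i j, (G.mult i j : ℚ) = ((tmat G)ᵀ * tmat G) j i := fun i j => by
    simp [BlowupGraph.mult, Matrix.mul_apply, tmat, mul_comm]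
  have hM : ∀ b i, ∑ j, G.mat b j * ((tmat G)ᵀ * tmat G) j i = -(if b = i then 1 else 0) :=
    fun b i => by
    rw [← Matrix.mul_apply, mat_mul_mult, Matrix.neg_apply, Matrix.one_apply]
  have key : ∀ i, i ∉ I → ∑ j ∈ univ.filter (fun j => j ∉ I),
      (G.mult i j : ℚ) * G.pairing I (σ i) j = -(if σ i = i then 1 else 0) := fun i hi => by
    rw [Finset.sum_filter_of_ne (p := fun j => j ∉ I) fun j _ hne hj => hne (by rw [pairing_eq_zero G _ hj, mul_zero])]
    simp only [hQ, BlowupGraph.pairing, mul_sub, Finset.sum_sub_distrib, Finset.mul_sum]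
    rw [Finset.sum_congr rfl fun j _ => mul_comm _ _, hM, sub_eq_self]
    rw [Finset.sum_comm]
    refine Finset.sum_eq_zero fun a _ => ?_
    rw [Finset.sum_comm]
    refine Finset.sum_eq_zero fun b _ => ?_
    simp only [mul_left_comm _ (G.mat (σ i) a.1 * _), ← Finset.mul_sum]
    rw [Finset.sum_congr rfl fun j _ => mul_comm _ _, hM, if_neg (show ¬ b.1 = i from fun h => hi (h ▸ b.2)), neg_zero,
      mul_zero]
  rw [BlowupGraph.lNum, Finset.sum_congr rfl fun i hi => key i (Finset.mem_filter.1 hi).2,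
    Finset.sum_neg_distrib, BlowupGraph.rNum, Finset.sum_boole, Finset.filter_filter]

end Groth.Agent.ArLef32
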