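import Groth.Agent.ArLef32.Fix
import Mathlib.RingTheory.MvPowerSeries.Equiv
import Mathlib.RingTheory.MvPowerSeries.Inverse
import Mathlib.RingTheory.MvPowerSeries.NoZeroDivisors
import Mathlib.RingTheory.PowerSeries.Inverse
import Mathlib.RingTheory.LocalRing.ResidueField.Basic

/-!
# The node algebra `B[[t, e]]/(t e - π)`: branches, primes, the maximal ideal
-/

set_option autoImplicit false

noncomputable section

namespace Groth.Agent.ArLef32

open ArLef

universe u

variable {B : Type u} [CommRing B] [IsLocalRing B] {π : B}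

/-- `t` for `i = 0`, `e` for `i = 1`. -/
abbrev T (π : B) (i : Fin 2) : NodeAlg B π := Ideal.Quotient.mk _ (MvPowerSeries.X i)

theorem T_zero : T π 0 = NodeAlg.t π := rfl

theorem T_one : T π 1 = NodeAlg.e π := rfl

theorem rev_ne (i : Fin 2) : i.rev ≠ i := by fin_cases i <;> decide

theorem eq_rev_of_ne {i j : Fin 2} (h : j ≠ i) : j = i.rev := by
  fin_cases i <;> fin_cases j <;> first | rfl | exact absurd rfl h

theorem te_eq : NodeAlg.t π * NodeAlg.e π = algebraMap B (NodeAlg B π) π := by
  show Ideal.Quotient.mk _ (MvPowerSeries.X 0 * MvPowerSeries.X 1) =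
    Ideal.Quotient.mk _ (MvPowerSeries.C π)
  exact Ideal.Quotient.eq.2 (Ideal.mem_span_singleton_self _)

theorem T_mul_rev (i : Fin 2) : T π i * T π i.rev = algebraMap B (NodeAlg B π) π := by
  fin_cases i
  · exact te_eq
  · exact (mul_comm _ _).trans te_eq

/-- The restriction of a series to the `i.rev`-axis, reduced modulo the maximal ideal. -/
def axis (i : Fin 2) :
    MvPowerSeries (Fin 2) B →+* PowerSeries (IsLocalRing.ResidueField B) where
  toFun f := PowerSeries.mk fun n =>
    IsLocalRing.residue B (MvPowerSeries.coeff (Finsupp.single i.rev n) f)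
  map_one' := by
    classical
    ext n
    simp [MvPowerSeries.coeff_one, PowerSeries.coeff_one, apply_ite (IsLocalRing.residue B)]
  map_mul' f g := by
    classical
    ext n
    simp only [PowerSeries.coeff_mk, MvPowerSeries.coeff_mul, PowerSeries.coeff_mul,
      Finsupp.antidiagonal_single, Finset.sum_map, map_sum, map_mul]
    rfl
  map_zero' := by ext n; simp
  map_add' f g := by ext n; simp

theorem coeff_axis (i : Fin 2) (f : MvPowerSeries (Fin 2) B) (n : ℕ) :
    PowerSeries.coeff n (axis i f) =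
      IsLocalRing.residue B (MvPowerSeries.coeff (Finsupp.single i.rev n) f) := by
  simp only [axis, RingHom.coe_mk, MonoidHom.coe_mk, OneHom.coe_mk, PowerSeries.coeff_mk]

theorem axis_C (i : Fin 2) (b : B) :
    axis i (MvPowerSeries.C b) = PowerSeries.C (IsLocalRing.residue B b) := by
  classical
  ext n
  simp [coeff_axis, MvPowerSeries.coeff_C, PowerSeries.coeff_C, apply_ite (IsLocalRing.residue B)]

theorem axis_X_self (i : Fin 2) : axis (B := B) i (MvPowerSeries.X i) = 0 := by
  classical
  ext n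
  rw [coeff_axis, MvPowerSeries.coeff_X, if_neg, map_zero, map_zero]
  intro h
  have := DFunLike.congr_fun h i
  rw [Finsupp.single_eq_same, Finsupp.single_eq_of_ne (rev_ne i).symm] at this
  omega

theorem axis_X_rev (i : Fin 2) :
    axis (B := B) i (MvPowerSeries.X i.rev) = PowerSeries.X := by
  classical
  ext n
  rw [coeff_axis, MvPowerSeries.coeff_X, PowerSeries.coeff_X, apply_ite (IsLocalRing.residue B),
    map_one, map_zero]
  refine if_ctx_congr ?_ (fun _ => rfl) fun _ => rfl
  exact ⟨fun h => by simpa using DFunLike.congr_fun h i.rev, fun h => by rw [h]⟩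

variable [hπ : Fact (IsLocalRing.maximalIdeal B = Ideal.span {π})]

theorem residue_pi : IsLocalRing.residue B π = 0 := by
  rw [IsLocalRing.residue_eq_zero_iff, hπ.out]
  exact Ideal.mem_span_singleton_self π

/-- The branch on which `T i` vanishes. -/
def branchN (π : B) [hπ : Fact (IsLocalRing.maximalIdeal B = Ideal.span {π})] (i : Fin 2) :
    NodeAlg B π →+* PowerSeries (IsLocalRing.ResidueField B) :=
  Ideal.Quotient.lift _ (axis i) fun a ha => by
    obtain ⟨c, rfl⟩ := Ideal.mem_span_singleton'.1 ha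
    rw [map_mul, map_sub, map_mul, axis_C, residue_pi, map_zero, sub_zero]
    fin_cases i <;> simp [axis_X_self]

theorem branchN_mk (i : Fin 2) (f : MvPowerSeries (Fin 2) B) :
    branchN π i (Ideal.Quotient.mk _ f) = axis i f := Ideal.Quotient.lift_mk _ _ _

theorem branchN_T_self (i : Fin 2) : branchN π i (T π i) = 0 :=
  (branchN_mk i _).trans (axis_X_self i)

theorem branchN_T_rev (i : Fin 2) : branchN π i (T π i.rev) = PowerSeries.X :=
  (branchN_mk i _).trans (axis_X_rev i)

theorem branchN_algebraMap (i : Fin 2) (b : B) :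
    branchN π i (algebraMap B _ b) = PowerSeries.C (IsLocalRing.residue B b) :=
  (branchN_mk i _).trans (axis_C i b)

theorem branchN_pi (i : Fin 2) : branchN π i (algebraMap B _ π) = 0 := by
  rw [branchN_algebraMap, residue_pi, map_zero]

theorem branchN_surjective (i : Fin 2) : Function.Surjective (branchN π i) := fun h => by
  classical
  choose c hc using fun n => IsLocalRing.residue_surjective (PowerSeries.coeff n h)
  let f : MvPowerSeries (Fin 2) B := fun d => c (d i.rev)
  refine ⟨Ideal.Quotient.mk _ f, ?_⟩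
  rw [branchN_mk]
  ext n
  rw [coeff_axis, MvPowerSeries.coeff_apply]
  simp [f, hc]

theorem branchN_eq_zero_iff (i : Fin 2) (z : NodeAlg B π) :
    branchN π i z = 0 ↔ T π i ∣ z := by
  classical
  refine ⟨fun h => ?_, fun ⟨w, hw⟩ => by rw [hw, map_mul, branchN_T_self, zero_mul]⟩
  obtain ⟨f, rfl⟩ := Ideal.Quotient.mk_surjective z
  rw [branchN_mk] at h
  have hc : ∀ n, ∃ g, MvPowerSeries.coeff (Finsupp.single i.rev n) f = π * g := fun n => by
    have h' := congrArg (PowerSeries.coeff n) h
    rw [coeff_axis, map_zero, IsLocalRing.residue_eq_zero_iff, hπ.out,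
      Ideal.mem_span_singleton] at h'
    exact h'
  choose g hg using hc
  let G : MvPowerSeries (Fin 2) B := fun d => if d i = 0 then g (d i.rev) else 0
  have hG : MvPowerSeries.X i ∣ f - MvPowerSeries.C π * G := by
    rw [MvPowerSeries.X_dvd_iff]
    intro d hd
    have hd' : d = Finsupp.single i.rev (d i.rev) := Finsupp.ext fun j => by
      rcases eq_or_ne j i with rfl | hj
      · rw [hd, Finsupp.single_eq_of_ne (rev_ne j).symm]
      · obtain rfl := eq_rev_of_ne hj
        rw [Finsupp.single_eq_same]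
    rw [map_sub, MvPowerSeries.coeff_C_mul]
    show MvPowerSeries.coeff d f - π * G d = 0
    simp only [G, if_pos hd]
    rw [← hg (d i.rev), ← hd', sub_self]
  obtain ⟨w, hw⟩ := hG
  refine ⟨Ideal.Quotient.mk _ w + T π i.rev * Ideal.Quotient.mk _ G, ?_⟩
  rw [sub_eq_iff_eq_add.1 hw, map_add, map_mul, map_mul, mul_add, ← mul_assoc, T_mul_rev]
  rfl

instance : Nontrivial (NodeAlg B π) :=
  ⟨⟨1, 0, fun h => one_ne_zero (α := PowerSeries (IsLocalRing.ResidueField B))
    (by simpa using congrArg (branchN π 0) h)⟩⟩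

instance : IsLocalRing (NodeAlg B π) :=
  IsLocalRing.of_surjective' (Ideal.Quotient.mk _) Ideal.Quotient.mk_surjective

theorem isUnit_of_branchN (i : Fin 2) {z : NodeAlg B π}
    (h : PowerSeries.constantCoeff (branchN π i z) ≠ 0) : IsUnit z := by
  obtain ⟨f, rfl⟩ := Ideal.Quotient.mk_surjective z
  refine IsUnit.map _ (MvPowerSeries.isUnit_iff_constantCoeff.2 ?_)
  rw [branchN_mk, ← PowerSeries.coeff_zero_eq_constantCoeff_apply, coeff_axis, Finsupp.single_zero,
    MvPowerSeries.coeff_zero_eq_constantCoeff_apply, IsLocalRing.residue_ne_zero_iff_isUnit] at h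
  exact h

theorem mem_maximalIdeal_iff (i : Fin 2) {z : NodeAlg B π} :
    z ∈ IsLocalRing.maximalIdeal (NodeAlg B π) ↔
      PowerSeries.constantCoeff (branchN π i z) = 0 := by
  rw [IsLocalRing.mem_maximalIdeal, mem_nonunits_iff]
  refine ⟨fun h => not_not.1 fun hne => h (isUnit_of_branchN i hne), fun h hu => ?_⟩
  have := PowerSeries.isUnit_iff_constantCoeff.1 (hu.map (branchN π i))
  rw [h] at this
  exact not_isUnit_zero this

theorem maximalIdeal_node :
    IsLocalRing.maximalIdeal (NodeAlg B π) = Ideal.span {NodeAlg.t π, NodeAlg.e π} := by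
  refine le_antisymm (fun z hz => ?_) (Ideal.span_le.2 ?_)
  · obtain ⟨g, hg⟩ := PowerSeries.X_dvd_iff.2 ((mem_maximalIdeal_iff 0).1 hz)
    obtain ⟨w, rfl⟩ := branchN_surjective (π := π) 0 g
    obtain ⟨v, hv⟩ := (branchN_eq_zero_iff 0 (z - NodeAlg.e π * w)).1 (by
      rw [map_sub, map_mul, show branchN π 0 (NodeAlg.e π) = PowerSeries.X from branchN_T_rev 0,
        hg, sub_self])
    rw [sub_eq_iff_eq_add.1 hv]
    exact Ideal.add_mem _ (Ideal.mul_mem_right _ _ (Ideal.subset_span (by simp [T_zero])))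
      (Ideal.mul_mem_right _ _ (Ideal.subset_span (by simp)))
  · rintro w (rfl | rfl)
    · rw [SetLike.mem_coe, mem_maximalIdeal_iff 0,
        show branchN π 0 (NodeAlg.t π) = 0 from branchN_T_self 0, map_zero]
    · rw [SetLike.mem_coe, mem_maximalIdeal_iff 0,
        show branchN π 0 (NodeAlg.e π) = PowerSeries.X from branchN_T_rev 0,
        PowerSeries.constantCoeff_X]

theorem exists_sub_algebraMap_mem (z : NodeAlg B π) :
    ∃ b, z - algebraMap B _ b ∈ IsLocalRing.maximalIdeal (NodeAlg B π) := by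
  obtain ⟨b, hb⟩ := IsLocalRing.residue_surjective (PowerSeries.constantCoeff (branchN π 0 z))
  exact ⟨b, (mem_maximalIdeal_iff 0).2 (by
    rw [map_sub, branchN_algebraMap, map_sub, PowerSeries.constantCoeff_C, hb, sub_self])⟩

theorem sup_T_rev (i : Fin 2) :
    Ideal.span {T π i} ⊔ Ideal.span {T π i.rev} = IsLocalRing.maximalIdeal (NodeAlg B π) := by
  rw [maximalIdeal_node, Ideal.span_insert]
  fin_cases i
  · rfl
  · exact sup_comm _ _

theorem T_prime_dvd (i : Fin 2) {z w : NodeAlg B π} (h : T π i ∣ z * w) :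
    T π i ∣ z ∨ T π i ∣ w := by
  rw [← branchN_eq_zero_iff, map_mul, mul_eq_zero] at h
  exact h.imp (branchN_eq_zero_iff i z).1 (branchN_eq_zero_iff i w).1

theorem not_T_dvd_rev (i : Fin 2) : ¬ T π i ∣ T π i.rev := fun h => by
  rw [← branchN_eq_zero_iff, branchN_T_rev] at h
  exact PowerSeries.X_ne_zero h

theorem T_rev_regular (i : Fin 2) (z : NodeAlg B π) (h : T π i.rev * z ∈ Ideal.span {T π i}) :
    z ∈ Ideal.span {T π i} := by
  rw [Ideal.mem_span_singleton] at h ⊢
  exact (T_prime_dvd i h).resolve_left (not_T_dvd_rev i)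

/-- The length on a branch of `T i.rev * y`. -/
theorem length_branch_rev_mul (i : Fin 2) (y : NodeAlg B π) :
    Module.length (NodeAlg B π) (NodeAlg B π ⧸ (Ideal.span {T π i} ⊔ Ideal.span {T π i.rev * y})) =
      1 + Module.length (NodeAlg B π)
        (NodeAlg B π ⧸ (Ideal.span {T π i} ⊔ Ideal.span {y})) := by
  rw [length_mul _ _ _ (T_rev_regular i), sup_T_rev, length_quotient_maximal]

instance [IsNoetherianRing B] : IsNoetherianRing (NodeAlg B π) :=
  isNoetherianRing_of_surjective _ _ (Ideal.Quotient.mk _) Ideal.Quotient.mk_surjective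

/-- The fixed-point ideal is generated by `σ t - t`, `σ e - e` and the moved constants. -/
theorem fixIdeal_node_le [IsNoetherianRing B] (σ : NodeAlg B π ≃+* NodeAlg B π)
    (J : Ideal (NodeAlg B π)) (hB : ∀ b, σ (algebraMap B _ b) - algebraMap B _ b ∈ J)
    (ht : σ (NodeAlg.t π) - NodeAlg.t π ∈ J) (he : σ (NodeAlg.e π) - NodeAlg.e π ∈ J) :
    ArLef.fixIdeal σ ≤ J :=
  fixIdeal_le (algebraMap B _) σ _ maximalIdeal_node exists_sub_algebraMap_mem J hB
    (by rintro g (rfl | rfl) <;> assumption)

theorem mul_t_mem_of_both {z : NodeAlg B π} (h₁ : branchN π 0 z = 0) (h₂ : branchN π 1 z = 0) :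
    z ∈ Ideal.span {algebraMap B (NodeAlg B π) π} := by
  obtain ⟨w, rfl⟩ := (branchN_eq_zero_iff 0 z).1 h₁
  have h := (T_prime_dvd 1 ((branchN_eq_zero_iff 1 _).1 h₂)).resolve_left (not_T_dvd_rev 1)
  obtain ⟨v, rfl⟩ := h
  rw [← mul_assoc, Ideal.mem_span_singleton]
  exact Dvd.intro v (congrArg (· * v) (T_mul_rev (π := π) 0).symm)

/-- The reduced node: `(π, x t, y e)`. -/
theorem length_node_reduced (x y : NodeAlg B π) :
    Module.length (NodeAlg B π) (NodeAlg B π ⧸
        Ideal.span {algebraMap B (NodeAlg B π) π, x * NodeAlg.t π, y * NodeAlg.e π}) + 1 =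
      Module.length (NodeAlg B π)
          (NodeAlg B π ⧸ Ideal.span {NodeAlg.t π, y * NodeAlg.e π}) +
        Module.length (NodeAlg B π)
          (NodeAlg B π ⧸ Ideal.span {NodeAlg.e π, x * NodeAlg.t π}) := by
  rw [← length_add_eq_of_inf (Ideal.span {algebraMap B (NodeAlg B π) π, x * NodeAlg.t π,
      y * NodeAlg.e π}) (Ideal.span {NodeAlg.t π, y * NodeAlg.e π})
      (Ideal.span {NodeAlg.e π, x * NodeAlg.t π})]
  · congr 1
    rw [show Ideal.span {NodeAlg.t π, y * NodeAlg.e π} ⊔ Ideal.span {NodeAlg.e π, x * NodeAlg.t π} =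
      IsLocalRing.maximalIdeal (NodeAlg B π) from ?_, length_quotient_maximal]
    refine le_antisymm ?_ ?_
    · rw [maximalIdeal_node, sup_le_iff, Ideal.span_le, Ideal.span_le]
      constructor
      · rintro w (rfl | rfl)
        · exact Ideal.subset_span (by simp)
        · exact Ideal.mul_mem_left _ _ (Ideal.subset_span (by simp))
      · rintro w (rfl | rfl)
        · exact Ideal.subset_span (by simp)
        · exact Ideal.mul_mem_left _ _ (Ideal.subset_span (by simp))
    · rw [maximalIdeal_node, Ideal.span_le]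
      rintro w (rfl | rfl)
      · exact Ideal.mem_sup_left (Ideal.subset_span (by simp))
      · exact Ideal.mem_sup_right (Ideal.subset_span (by simp))
  · rw [Ideal.span_le]
    rintro w (rfl | rfl | rfl)
    · rw [← te_eq]; exact Ideal.mul_mem_right _ _ (Ideal.subset_span (by simp))
    · exact Ideal.mul_mem_left _ _ (Ideal.subset_span (by simp))
    · exact Ideal.subset_span (by simp)
  · rw [Ideal.span_le]
    rintro w (rfl | rfl | rfl)
    · rw [← te_eq]; exact Ideal.mul_mem_left _ _ (Ideal.subset_span (by simp))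
    · exact Ideal.subset_span (by simp)
    · exact Ideal.mul_mem_left _ _ (Ideal.subset_span (by simp))
  · rintro z ⟨h₁, h₂⟩
    obtain ⟨u₁, v₁, e₁⟩ := Ideal.mem_span_pair.1 h₁
    obtain ⟨u₂, v₂, e₂⟩ := Ideal.mem_span_pair.1 h₂
    have hr := mul_t_mem_of_both (z := z - v₁ * (y * NodeAlg.e π) - v₂ * (x * NodeAlg.t π)) (by
      rw [← e₁]; simp [← T_zero, branchN_T_self]) (by
      rw [← e₂]; simp [← T_one, branchN_T_self])
    obtain ⟨c, hc⟩ := Ideal.mem_span_singleton'.1 hr
    rw [show z = c * algebraMap B _ π + v₂ * (x * NodeAlg.t π) + v₁ * (y * NodeAlg.e π) by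
      rw [hc]; ring]
    exact Ideal.add_mem _ (Ideal.add_mem _ (Ideal.mul_mem_left _ _ (Ideal.subset_span (by simp)))
      (Ideal.mul_mem_left _ _ (Ideal.subset_span (by simp))))
      (Ideal.mul_mem_left _ _ (Ideal.subset_span (by simp)))

/-! ### `π` a nonzero element of a domain -/

variable [IsDomain B]

theorem T_regular (i : Fin 2) {z : NodeAlg B π} (hπ0 : π ≠ 0) (h : T π i * z = 0) : z = 0 := by
  obtain ⟨f, rfl⟩ := Ideal.Quotient.mk_surjective z
  rw [← map_mul, Ideal.Quotient.eq_zero_iff_mem, Ideal.mem_span_singleton] at h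
  obtain ⟨q, hq⟩ := h
  have hX : MvPowerSeries.X i ∣ q := by
    rw [MvPowerSeries.X_dvd_iff]
    intro d hd
    have h1 : MvPowerSeries.X i ∣ MvPowerSeries.C π * q := by
      refine ⟨MvPowerSeries.X i.rev * q - f, ?_⟩
      rw [mul_sub, hq]
      fin_cases i <;> simp <;> ring
    have h2 := MvPowerSeries.X_dvd_iff.1 h1 d hd
    rw [MvPowerSeries.coeff_C_mul, mul_eq_zero] at h2
    exact h2.resolve_left hπ0
  obtain ⟨q', rfl⟩ := hX
  have hXne : (MvPowerSeries.X i : MvPowerSeries (Fin 2) B) ≠ 0 := fun h0 => by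
    have := congrArg (MvPowerSeries.coeff (Finsupp.single i 1)) h0
    simp at this
  rw [Ideal.Quotient.eq_zero_iff_mem, Ideal.mem_span_singleton]
  refine ⟨q', mul_left_cancel₀ hXne ?_⟩
  rw [hq]
  ring

theorem T_ne_zero (i : Fin 2) : T π i ≠ 0 := fun h => by
  have h' : i.rev.rev = i := Fin.rev_rev i
  have := branchN_T_rev (π := π) i.rev
  rw [h', h, map_zero] at this
  exact PowerSeries.X_ne_zero this.symm

theorem isDomain_node [IsNoetherianRing B] (hπ0 : π ≠ 0) : IsDomain (NodeAlg B π) := by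
  classical
  have hdec : ∀ z : NodeAlg B π, z ≠ 0 → ∃ n z', z = T π 0 ^ n * z' ∧ ¬ T π 0 ∣ z' := by
    intro z hz
    have hex : ∃ n, ¬ T π 0 ^ n ∣ z := by
      by_contra hall
      push Not at hall
      refine hz ?_
      rw [← Ideal.mem_bot, ← Ideal.iInf_pow_eq_bot_of_isLocalRing (Ideal.span {T π 0}) (fun h => ?_),
        Ideal.mem_iInf]
      · exact fun n => by rw [Ideal.span_singleton_pow, Ideal.mem_span_singleton]; exact hall n
      · have h1 : IsUnit (T π 0) := Ideal.span_singleton_eq_top.1 h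
        have h2 := h1.map (branchN π 0)
        rw [branchN_T_self] at h2
        exact not_isUnit_zero h2
    set n := Nat.find hex with hn
    rcases n with _ | m
    · exact absurd (by simp) (hn.symm ▸ Nat.find_spec hex)
    · obtain ⟨z', hz'⟩ := not_not.1 (Nat.find_min hex (m := m) (by omega))
      refine ⟨m, z', hz', fun h => (hn.symm ▸ Nat.find_spec hex) ?_⟩
      obtain ⟨w, rfl⟩ := h
      exact ⟨w, by rw [hz', pow_succ]; ring⟩
  have hpow : ∀ (n : ℕ) (z : NodeAlg B π), T π 0 ^ n * z = 0 → z = 0 := by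
    intro n
    induction n with
    | zero => exact fun z h => by simpa using h
    | succ n ih =>
      intro z h
      rw [pow_succ, mul_assoc] at h
      exact T_regular 0 hπ0 (ih _ h)
  have : NoZeroDivisors (NodeAlg B π) := ⟨fun {a b} h => by
    by_contra hab
    push Not at hab
    obtain ⟨n, a', rfl, ha'⟩ := hdec a hab.1
    obtain ⟨m, b', rfl, hb'⟩ := hdec b hab.2
    have h0 : a' * b' = 0 := hpow (n + m) _ (by rw [← h]; ring)
    exact (T_prime_dvd 0 (h0 ▸ dvd_zero _)).elim ha' hb'⟩
  exact NoZeroDivisors.to_isDomain _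

omit hπ in
theorem fact_of_irreducible [IsDiscreteValuationRing B] (hirr : Irreducible π) :
    Fact (IsLocalRing.maximalIdeal B = Ideal.span {π}) :=
  ⟨hirr.maximalIdeal_eq⟩

theorem T_prime [IsNoetherianRing B] (i : Fin 2) : Prime (T π i) := by
  refine ⟨T_ne_zero i, fun hu => ?_, fun a b h => T_prime_dvd i h⟩
  have h2 := hu.map (branchN π i)
  rw [branchN_T_self] at h2
  exact not_isUnit_zero h2

end Groth.Agent.ArLef32
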