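import Groth.Agent.ArLef32.Fix
import Mathlib.RingTheory.PowerSeries.Inverse
import Mathlib.RingTheory.PowerSeries.NoZeroDivisors
import Mathlib.RingTheory.PowerSeries.Ideal
import Mathlib.RingTheory.LocalRing.ResidueField.Basic
import Mathlib.RingTheory.DiscreteValuationRing.Basic
import Mathlib.RingTheory.Ideal.Colon

/-!
# Fixed-point multiplicities at a smooth point of an arithmetic surface
-/

set_option autoImplicit false

noncomputable section

namespace Groth.Agent.ArLef32

universe u

variable {B : Type u} [CommRing B] [IsDomain B] [IsDiscreteValuationRing B] {π : B}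

/-- `π` in the power series ring. -/
abbrev cP (π : B) : PowerSeries B := algebraMap B (PowerSeries B) π

theorem map_residue_eq_zero_iff (hπ : Irreducible π) (z : PowerSeries B) :
    PowerSeries.map (IsLocalRing.residue B) z = 0 ↔ cP π ∣ z := by
  have hmem : ∀ x : B, IsLocalRing.residue B x = 0 ↔ π ∣ x := fun x => by
    rw [IsLocalRing.residue_eq_zero_iff, hπ.maximalIdeal_eq, Ideal.mem_span_singleton]
  constructor
  · intro h
    have hc : ∀ n, π ∣ PowerSeries.coeff n z := fun n => (hmem _).1 (by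
      rw [← PowerSeries.coeff_map, h, map_zero])
    choose g hg using hc
    refine ⟨PowerSeries.mk g, PowerSeries.ext fun n => ?_⟩
    rw [hg n]
    simp [cP, PowerSeries.coeff_C_mul]
  · rintro ⟨w, rfl⟩
    rw [map_mul, show cP π = PowerSeries.C π from rfl, PowerSeries.map_C, (hmem π).2 dvd_rfl,
      map_zero, zero_mul]

theorem cP_dvd_mul (hπ : Irreducible π) {a b : PowerSeries B} (h : cP π ∣ a * b) :
    cP π ∣ a ∨ cP π ∣ b := by
  rw [← map_residue_eq_zero_iff hπ, map_mul, mul_eq_zero] at h
  exact h.imp (map_residue_eq_zero_iff hπ a).1 (map_residue_eq_zero_iff hπ b).1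

theorem cP_ne_zero (hπ : Irreducible π) : cP π ≠ 0 := fun h =>
  hπ.ne_zero (by simpa [cP] using congrArg PowerSeries.constantCoeff h)

theorem cP_regular_mod (hπ : Irreducible π) {f : PowerSeries B} (hf : ¬ cP π ∣ f)
    (z : PowerSeries B) (h : cP π * z ∈ Ideal.span {f}) : z ∈ Ideal.span {f} := by
  obtain ⟨w, hw⟩ := Ideal.mem_span_singleton.1 h
  obtain ⟨w', rfl⟩ := (cP_dvd_mul hπ ⟨z, hw.symm⟩).resolve_left hf
  exact Ideal.mem_span_singleton.2 ⟨w', mul_left_cancel₀ (cP_ne_zero hπ) (by rw [hw]; ring)⟩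

theorem maximalIdeal_powerSeries (hπ : Irreducible π) :
    IsLocalRing.maximalIdeal (PowerSeries B) = Ideal.span {cP π, PowerSeries.X} := by
  refine le_antisymm (fun z hz => ?_) (Ideal.span_le.2 ?_)
  · have h0 : ¬ IsUnit (PowerSeries.constantCoeff z) := fun h =>
      hz (PowerSeries.isUnit_iff_constantCoeff.2 h)
    rw [← mem_nonunits_iff, ← IsLocalRing.mem_maximalIdeal, hπ.maximalIdeal_eq,
      Ideal.mem_span_singleton] at h0
    obtain ⟨c, hc⟩ := h0
    obtain ⟨g, hg⟩ : PowerSeries.X ∣ z - cP π * PowerSeries.C c :=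
      PowerSeries.X_dvd_iff.2 (by simp [cP, hc])
    rw [sub_eq_iff_eq_add.1 hg]
    exact Ideal.add_mem _ (Ideal.mul_mem_right _ _ (Ideal.subset_span (by simp)))
      (Ideal.mul_mem_right _ _ (Ideal.subset_span (by simp)))
  · rintro w (rfl | rfl) <;>
      rw [SetLike.mem_coe, IsLocalRing.mem_maximalIdeal, mem_nonunits_iff,
        PowerSeries.isUnit_iff_constantCoeff]
    · simpa [cP] using hπ.not_isUnit
    · rw [PowerSeries.constantCoeff_X]; exact not_isUnit_zero

theorem fixIdeal_powerSeries (hπ : Irreducible π) (σ : PowerSeries B ≃+* PowerSeries B) (j : ℕ)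
    {γ : B} (hγ : IsUnit γ)
    (hσB : ∀ b, σ (algebraMap B _ b) - algebraMap B _ b ∈
      Ideal.span {algebraMap B (PowerSeries B) (π ^ j)})
    (hσπ : σ (algebraMap B _ π) = algebraMap B (PowerSeries B) (π + γ * π ^ j)) :
    ArLef.fixIdeal σ = Ideal.span {cP π ^ j, σ PowerSeries.X - PowerSeries.X} := by
  refine le_antisymm (fixIdeal_le (algebraMap B _) σ _ (maximalIdeal_powerSeries hπ) (fun z => ?_) _
    (fun b => ?_) ?_) (Ideal.span_le.2 ?_)
  · refine ⟨PowerSeries.constantCoeff z, ?_⟩
    rw [IsLocalRing.mem_maximalIdeal, mem_nonunits_iff, PowerSeries.isUnit_iff_constantCoeff]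
    simp
  · refine Ideal.span_mono ?_ (hσB b)
    exact Set.singleton_subset_iff.2 (Or.inl (map_pow _ _ _))
  · rintro g (rfl | rfl)
    · refine Ideal.span_mono ?_ (hσB π)
      exact Set.singleton_subset_iff.2 (Or.inl (map_pow _ _ _))
    · exact Ideal.subset_span (by simp)
  · rintro w (rfl | rfl)
    · rw [SetLike.mem_coe, ← Ideal.unit_mul_mem_iff_mem _ (hγ.map (algebraMap B (PowerSeries B)))]
      have h := sub_mem_fixIdeal σ (cP π)
      rw [hσπ, map_add, add_sub_cancel_left, map_mul, map_pow] at h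
      exact h
    · exact sub_mem_fixIdeal _ _

theorem length_residual (hπ : Irreducible π) (n : ℕ) {f : PowerSeries B} (hf : ¬ cP π ∣ f) :
    Module.length (PowerSeries B) (PowerSeries B ⧸ Ideal.span {cP π ^ n, f}) =
      (n : ℕ∞) * Module.length (PowerSeries (IsLocalRing.ResidueField B))
        (PowerSeries (IsLocalRing.ResidueField B) ⧸
          Ideal.span {PowerSeries.map (IsLocalRing.residue B) f}) := by
  rw [Ideal.span_insert, sup_comm, length_pow _ _ (cP_regular_mod hπ hf)]
  congr 1
  letI := (PowerSeries.map (IsLocalRing.residue B)).toAlgebra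
  have hsurj : Function.Surjective (algebraMap (PowerSeries B)
      (PowerSeries (IsLocalRing.ResidueField B))) :=
    PowerSeries.map_surjective _ IsLocalRing.residue_surjective
  rw [← Module.length_eq_of_surjective (S := PowerSeries B) hsurj]
  set I := Ideal.span {PowerSeries.map (IsLocalRing.residue B) f}
  let L : PowerSeries B →ₗ[PowerSeries B] (PowerSeries (IsLocalRing.ResidueField B) ⧸ I) :=
    (Submodule.mkQ I).restrictScalars (PowerSeries B) ∘ₗ
      Algebra.linearMap (PowerSeries B) (PowerSeries (IsLocalRing.ResidueField B))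
  have hL : Function.Surjective L := (Submodule.mkQ_surjective I).comp hsurj
  refine (((Submodule.quotEquivOfEq _ _ ?_)).trans (L.quotKerEquivOfSurjective hL)).length_eq
  ext z
  rw [LinearMap.mem_ker]
  change z ∈ Ideal.span {f} ⊔ Ideal.span {cP π} ↔
    Submodule.Quotient.mk (PowerSeries.map (IsLocalRing.residue B) z) = (0 : _ ⧸ I)
  rw [Submodule.Quotient.mk_eq_zero, Ideal.mem_span_singleton]
  constructor
  · intro h
    obtain ⟨a, ha, b, hb, rfl⟩ := Submodule.mem_sup.1 h
    obtain ⟨c, rfl⟩ := Ideal.mem_span_singleton.1 ha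
    rw [map_add, (map_residue_eq_zero_iff hπ b).2 (Ideal.mem_span_singleton.1 hb), add_zero, map_mul]
    exact dvd_mul_right _ _
  · rintro ⟨c, hc⟩
    obtain ⟨c, rfl⟩ := hsurj c
    rw [show z = f * c + (z - f * c) by ring]
    refine Ideal.add_mem _ (Ideal.mem_sup_left (Ideal.mul_mem_right _ _
      (Ideal.mem_span_singleton_self f))) (Ideal.mem_sup_right (Ideal.mem_span_singleton.2
        ((map_residue_eq_zero_iff hπ _).1 ?_)))
    rw [map_sub, map_mul, hc]
    exact sub_self _

theorem colon_smooth (hπ : Irreducible π) {j i : ℕ} (hij : i ≤ j) (f : PowerSeries B) :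
    (Ideal.span {cP π ^ j, cP π ^ i * f}).colon ({cP π ^ i} : Set (PowerSeries B)) =
      Ideal.span {cP π ^ (j - i), f} := by
  have hne : cP π ^ i ≠ 0 := pow_ne_zero _ (cP_ne_zero hπ)
  ext w
  rw [Submodule.mem_colon_singleton, smul_eq_mul]
  constructor
  · intro h
    obtain ⟨a, b, e⟩ := Ideal.mem_span_pair.1 h
    refine Ideal.mem_span_pair.2 ⟨a, b, mul_left_cancel₀ hne ?_⟩
    rw [mul_comm (cP π ^ i) w, ← e]
    conv_rhs => rw [show j = i + (j - i) by omega, pow_add]
    ring
  · intro h
    obtain ⟨a, b, rfl⟩ := Ideal.mem_span_pair.1 h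
    refine Ideal.mem_span_pair.2 ⟨a, b, ?_⟩
    conv_lhs => rw [show j = i + (j - i) by omega, pow_add]
    ring

end Groth.Agent.ArLef32
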